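import Groth.Agent.CAlgH.FlatLocusH.Weak
import Groth.Agent.CAlgH.InjModA.Reflect
import Groth.Agent.FlatMorDevissage.LocalModel

/-!
# A flatness criterion over henselian local rings

A finite module `G` over a local algebra `B` essentially of finite type over a henselian local ring
`R` is flat over `R` if, for every local flat `B`-algebra `L` essentially of finite type over `R`,
maps from finite free `R`-modules to `L ⊗ G` injective modulo the maximal ideal are injective.
-/

set_option autoImplicit false
set_option backward.isDefEq.respectTransparency false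
set_option linter.style.haveILetI false

universe u

open TensorProduct Function IsLocalRing

namespace Groth.Agent.CAlgH.FlatLocusH

open Groth.Agent FlatMorDevissage InjModA

attribute [local instance] Algebra.TensorProduct.rightAlgebra

set_option maxHeartbeats 1600000 in
/-- The finite type form. -/
theorem flat_of_injFree_aux {A S : Type u} [CommRing A] [HenselianLocalRing A] [CommRing S] [Algebra A S]
    [Algebra.FiniteType A S] (q : Ideal S) [q.IsPrime] [q.LiesOver (maximalIdeal A)]
    {N₀ N : Type u} [AddCommGroup N₀] [Module S N₀] [Module.Finite S N₀]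
    [AddCommGroup N] [Module S N] [Module A N] [IsScalarTower A S N] (φ : N₀ →ₗ[S] N)
    [IsLocalizedModule q.primeCompl φ]
    (H : ∀ (L : Type u) [CommRing L] [IsLocalRing L] [Algebra S L] [Algebra A L] [IsScalarTower A S L]
      [Module.Flat S L] [Algebra.EssFiniteType A L],
      q = (maximalIdeal L).comap (algebraMap S L) → InjFree A (L ⊗[S] N)) :
    Module.Flat A N := by
  have hN : ∀ c ∉ q, Bijective fun x : N => c • x := fun c hc =>
    (Module.End.isUnit_iff _).1 (IsLocalizedModule.map_units φ (⟨c, hc⟩ : q.primeCompl))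
  by_cases hNq : Module.annihilator S N₀ ≤ q
  swap
  · obtain ⟨a, haN, haq⟩ := SetLike.not_le_iff_exists.1 hNq
    have : Subsingleton N := subsingleton_of_forall_eq 0 fun n => by
      obtain ⟨⟨n₀, t⟩, ht⟩ := IsLocalizedModule.surj q.primeCompl φ n
      apply (hN _ t.2).1
      apply (hN a haq).1
      simp only [smul_zero]
      rw [show (t : S) • n = φ n₀ from ht, ← map_smul, Module.mem_annihilator.1 haN, map_zero]
    exact inferInstance
  obtain ⟨n, hd⟩ : ∃ n : ℕ, ∀ w : PrimeSpectrum S, EGA43.FibDepth.trd A w ≤ n := by
    obtain ⟨s, f, hf⟩ :=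
      Algebra.FiniteType.iff_quotient_mvPolynomial''.1 ‹Algebra.FiniteType A S›
    refine ⟨s, fun w => ?_⟩
    rw [← EGA43.FibDepth.trd_comap_of_surjectiveOnStalks f
      (RingHom.surjectiveOnStalks_of_surjective hf) w]
    exact EGA43.FibDepth.trd_mvPolynomial_le _
  obtain ⟨R', S', _, _, _, _, _, _, _, _, p', q', _, _, hR, hS, ho, hch⟩ :=
    exists_hasChainNhd n N₀ (maximalIdeal A) q (fun w _ _ _ => hd w) hNq
  have hnhd := hR
  obtain ⟨hRe, hRo, -⟩ := hR
  obtain ⟨hSe, hSo, -⟩ := hS
  let B := Localization.AtPrime p'
  let m := maximalIdeal B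
  have hmp' : m.LiesOver p' := ⟨(IsLocalization.AtPrime.under_maximalIdeal B p').symm⟩
  obtain ⟨T, NT, _, _, _, _, _, _, _, _, _, _, _, _, _, μ, hμ⟩ :=
    exists_model R' B S' (S' ⊗[S] N₀)
  haveI hpush' : Algebra.IsPushout R' S' B T := ‹_›
  have hpush : Algebra.IsPushout R' B S' T := Algebra.IsPushout.symm ‹_›
  obtain ⟨q'', hq'', hq''q', hq''m⟩ := exists_prime_isPushout (S' := T) p' m
    ((RingHom.surjectiveOnStalks_of_isLocalization (M := p'.primeCompl)
      B).residueFieldMap_bijective p' m (m.over_def p')) q'
  have hchain : Chain B m T NT q'' :=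
    (hch _ (TensorProduct.mk S S' N₀ 1) (TensorProduct.isBaseChange S N₀ S')).localize m T q'' NT μ hμ
  let _ : Algebra S T := ((algebraMap S' T).comp (algebraMap S S')).toAlgebra
  have : IsScalarTower S S' T := .of_algebraMap_eq' rfl
  let _ : Algebra A T := ((algebraMap S T).comp (algebraMap A S)).toAlgebra
  have : IsScalarTower A S T := .of_algebraMap_eq' rfl
  have : IsScalarTower A B T := .of_algebraMap_eq fun a => by
    show algebraMap S' T (algebraMap S S' (algebraMap A S a)) = _
    rw [← IsScalarTower.algebraMap_apply A S S', IsScalarTower.algebraMap_apply A R' S',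
      ← IsScalarTower.algebraMap_apply R' S' T, IsScalarTower.algebraMap_apply A R' B,
      ← IsScalarTower.algebraMap_apply R' B T]
  let _ : Module S NT := Module.compHom NT (algebraMap S T)
  have : IsScalarTower S T NT := .of_algebraMap_smul fun _ _ => rfl
  have : IsScalarTower S S' NT := .of_algebraMap_smul fun c x => by
    rw [← algebraMap_smul T (algebraMap S S' c) x]
    rfl
  have : Module.Flat S' T :=
    Module.Flat.of_linearEquiv (R := S') (M := S' ⊗[R'] B)
      (Algebra.IsPushout.equiv R' S' B T).toLinearEquiv.symm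
  have : Module.Flat R' B := IsLocalization.flat B p'.primeCompl
  have : Module.Flat S T := Module.Flat.trans S S' T
  have : Module.Flat A B := Module.Flat.trans A R' B
  have : Algebra.FormallyUnramified A B := Algebra.FormallyUnramified.comp A R' B
  have : Algebra.EssFiniteType A B := Algebra.EssFiniteType.comp A R' B
  haveI : IsLocalHom (algebraMap A B) :=
    ((local_hom_TFAE (algebraMap A B)).out 0 4).2 (by
      rw [IsScalarTower.algebraMap_eq A R' B, ← Ideal.comap_comap]
      exact (congrArg (Ideal.comap (algebraMap A R')) hmp'.over.symm).trans hRo.over.symm)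
  have hqq : q = q''.comap (algebraMap S T) := by
    rw [IsScalarTower.algebraMap_eq S S' T, ← Ideal.comap_comap]
    exact hSo.over.trans (congrArg (Ideal.comap (algebraMap S S')) hq''q'.over)
  -- the local ring
  let L := Localization.AtPrime q''
  let _ : Module B NT := Module.compHom NT (algebraMap B T)
  have : IsScalarTower B T NT := .of_algebraMap_smul fun _ _ => rfl
  have : Module.Flat S L := Module.Flat.trans S T L
  have hqL : q = (maximalIdeal L).comap (algebraMap S L) := by
    rw [IsScalarTower.algebraMap_eq S T L, ← Ideal.comap_comap]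
    exact hqq.trans (congrArg (Ideal.comap (algebraMap S T))
      (IsLocalization.AtPrime.under_maximalIdeal L q'').symm)
  let f₂ : N₀ →ₗ[S] LocalizedModule q''.primeCompl NT :=
    ((LocalizedModule.mkLinearMap q''.primeCompl NT).restrictScalars S) ∘ₗ
      ((μ.restrictScalars S) ∘ₗ TensorProduct.mk S S' N₀ 1)
  have hf₂ : IsBaseChange L f₂ :=
    ((TensorProduct.isBaseChange S N₀ S').comp hμ).comp (IsLocalizedModule.isBaseChange q''.primeCompl L _)
  have hφ : Bijective (φ.lTensor L) :=
    bijective_lTensor_localized q.primeCompl (fun t ht => by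
      by_contra h
      exact ht (hqL ▸ (mem_maximalIdeal _).2 h)) φ
  let e₂ : L ⊗[S] N₀ ≃ₗ[L] L ⊗[S] N :=
    LinearEquiv.ofBijective (AlgebraTensorModule.lTensor L L φ) hφ
  have hprop : FlatOfInj B (L ⊗[S] N) :=
    (flatOfInj_of_chain hchain).of_equiv ((hf₂.equiv.symm.trans e₂).restrictScalars B)
  -- the base is unchanged
  have hbij : Bijective (algebraMap A B) := bijective_of_henselian p' hnhd
  have hmB : (maximalIdeal A).map (algebraMap A B) = maximalIdeal B :=
    Algebra.FormallyUnramified.map_maximalIdeal
  have : Algebra.EssFiniteType A S' :=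
    have : Algebra.Etale S S' := hSe
    Algebra.EssFiniteType.comp A S S'
  have : Algebra.EssFiniteType A T :=
    have : IsLocalization (Algebra.algebraMapSubmonoid S' p'.primeCompl) T :=
      (Algebra.isLocalization_iff_isPushout p'.primeCompl B).2 hpush'
    have : IsScalarTower A S' T := .of_algebraMap_eq fun a => by
      show algebraMap S' T (algebraMap S S' (algebraMap A S a)) = _
      rw [← IsScalarTower.algebraMap_apply A S S']
    have : Algebra.EssFiniteType S' T :=
      Algebra.EssFiniteType.of_isLocalization T (Algebra.algebraMapSubmonoid S' p'.primeCompl)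
    Algebra.EssFiniteType.comp A S' T
  have : Algebra.EssFiniteType A L := Algebra.EssFiniteType.comp A T L
  have hinjA : InjFree A (L ⊗[S] N) := H L hqL
  have hinjB : InjFree B (L ⊗[S] N) := by
    intro κ _ ψ hψ c hc
    have hres : (maximalIdeal B • (⊤ : Submodule B (L ⊗[S] N))).restrictScalars A =
        maximalIdeal A • (⊤ : Submodule A (L ⊗[S] N)) := by
      rw [← hmB, Ideal.smul_restrictScalars, Submodule.restrictScalars_top]
    have hres' : (maximalIdeal B • (⊤ : Submodule B (κ → B))).restrictScalars A =
        maximalIdeal A • (⊤ : Submodule A (κ → B)) := by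
      rw [← hmB, Ideal.smul_restrictScalars, Submodule.restrictScalars_top]
    let e : (κ → A) ≃ₗ[A] (κ → B) :=
      LinearEquiv.piCongrRight fun _ => LinearEquiv.ofBijective (Algebra.linearMap A B) hbij
    have h0 := hinjA ((ψ.restrictScalars A).comp e.toLinearMap) (fun d hd => ?_) (e.symm c)
      (by simp [hc])
    · rw [← e.apply_symm_apply c, h0, map_zero]
    · have h1 : e d ∈ maximalIdeal A • (⊤ : Submodule A (κ → B)) := by
        rw [← hres', Submodule.restrictScalars_mem]
        exact hψ _ (by rw [← Submodule.restrictScalars_mem A, hres]; exact hd)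
      simpa using apply_mem_smul_top e.symm.toLinearMap h1
  have : Module.Flat B (L ⊗[S] N) := hprop hinjB
  have hA : Module.Flat A (L ⊗[S] N) := Module.Flat.trans A B _
  have hLat : FlatCA.FlatAt A (maximalIdeal L) (L ⊗[S] N) :=
    (flatAt_iff_kerKilled _).2 fun X Y _ _ _ _ i hi x hx => ⟨1, Ideal.one_notMem _, by
      rw [one_smul]
      exact Module.Flat.lTensor_preserves_injective_linearMap (M := L ⊗[S] N) i hi
        (hx.trans (map_zero _).symm)⟩
  have hNat : FlatCA.FlatAt A q N := by
    have h := (flatAt_tensor_iff (maximalIdeal L)).1 hLat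
    simp only [← hqL] at h
    exact h
  haveI hNflat : Module.Flat A N := flat_of_flatAt_of_units q hN hNat
  exact hNflat

theorem injFree_of_subsingleton {A G : Type u} [CommRing A] [IsLocalRing A] [AddCommGroup G] [Module A G]
    [Subsingleton G] : InjFree A G := fun {κ} _ ψ hψ c _ => by
  have h : ∀ d : κ → A, d ∈ maximalIdeal A • (⊤ : Submodule A (κ → A)) := fun d =>
    hψ d (by rw [Subsingleton.elim (ψ d) 0]; exact zero_mem _)
  funext j
  exfalso
  have := apply_mem_smul_top (LinearMap.proj (R := A) (φ := fun _ : κ => A) j) (h fun _ => 1)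
  rw [Ideal.smul_top_eq_map, Algebra.algebraMap_self, Ideal.map_id] at this
  exact (maximalIdeal.isMaximal A).ne_top ((Ideal.eq_top_iff_one _).2 this)

/-- **Flatness over a henselian local ring from maps from free modules.** -/
theorem flat_of_injFree {R B G : Type u} [CommRing R] [HenselianLocalRing R] [CommRing B] [IsLocalRing B]
    [Algebra R B] [IsLocalHom (algebraMap R B)] [Algebra.EssFiniteType R B]
    [AddCommGroup G] [Module B G] [Module R G] [IsScalarTower R B G] [Module.Finite B G]
    (H : ∀ (L : Type u) [CommRing L] [IsLocalRing L] [Algebra B L] [Algebra R L] [IsScalarTower R B L]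
      [Module.Flat B L] [IsLocalHom (algebraMap B L)] [Algebra.EssFiniteType R L],
      InjFree R (L ⊗[B] G)) : Module.Flat R G := by
  obtain ⟨P, _, _, _, _, hfpP, hP⟩ := exists_polynomial_model (A := R) (B := B)
  let _ : Module P G := Module.compHom G (algebraMap P B)
  have : IsScalarTower P B G := .of_algebraMap_smul fun _ _ => rfl
  have : IsScalarTower R P G := isScalarTower_of_top R P B G
  let q := (maximalIdeal B).comap (algebraMap P B)
  have : q.LiesOver (maximalIdeal R) := ⟨by
    rw [Ideal.under, Ideal.comap_comap, ← IsScalarTower.algebraMap_eq]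
    exact Eq.symm (((local_hom_TFAE (algebraMap R B)).out 0 4).1 ‹IsLocalHom (algebraMap R B)›)⟩
  obtain ⟨N₀, _, hloc⟩ := exists_finite_model (N := G) hP
  refine flat_of_injFree_aux q N₀.subtype fun L _ _ _ _ _ _ _ hqL => ?_
  let Lb := B ⊗[P] L
  let ι : L →ₐ[P] Lb := Algebra.TensorProduct.includeRight
  have hι : Surjective ι := fun z => by
    induction z using TensorProduct.induction_on with
    | zero => exact ⟨0, map_zero _⟩
    | add x y hx hy =>
      obtain ⟨x, rfl⟩ := hx
      obtain ⟨y, rfl⟩ := hy
      exact ⟨x + y, map_add _ _ _⟩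
    | tmul b l =>
      obtain ⟨s, t, ht, hb⟩ := hP b
      have htL : IsUnit (algebraMap P L t) := of_not_not fun h => by
        have htq : t ∈ q := hqL ▸ (mem_maximalIdeal _).2 h
        exact (mem_maximalIdeal _).1 htq ht
      obtain ⟨v, hv⟩ := htL.exists_left_inv
      refine ⟨algebraMap P L s * (v * l), ?_⟩
      show (1 : B) ⊗ₜ[P] (algebraMap P L s * (v * l)) = b ⊗ₜ[P] l
      rw [← Algebra.smul_def, ← TensorProduct.smul_tmul, Algebra.smul_def, mul_one, ← hb, mul_comm b,
        ← Algebra.smul_def, TensorProduct.smul_tmul, Algebra.smul_def, ← mul_assoc,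
        mul_comm (algebraMap P L t), hv, one_mul]
  rcases subsingleton_or_nontrivial Lb with h | h
  · have : Subsingleton (L ⊗[P] G) := by
      have : Subsingleton (G ⊗[B] Lb) := inferInstance
      exact ((TensorProduct.comm P L G).toEquiv.trans
        (AlgebraTensorModule.cancelBaseChange P B B G L).symm.toEquiv).subsingleton
    exact fun {κ} _ ψ => injFree_of_subsingleton ψ
  let _ : Algebra R Lb := Algebra.TensorProduct.leftAlgebra
  have : IsScalarTower R B Lb := inferInstance
  have : IsLocalRing Lb := .of_surjective' ι.toRingHom hι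
  have : IsScalarTower R P Lb := .of_algebraMap_eq fun r => by
    show algebraMap R B r ⊗ₜ[P] (1 : L) = algebraMap P B (algebraMap R P r) ⊗ₜ[P] (1 : L)
    rw [← IsScalarTower.algebraMap_apply R P B]
  have : IsLocalHom ι.toRingHom := .of_surjective _ hι
  have : IsLocalHom (algebraMap B Lb) := ⟨fun b hb => by
    obtain ⟨s, t, ht, hbt⟩ := hP b
    have h1 : ι (algebraMap P L s) = algebraMap B Lb b * algebraMap B Lb (algebraMap P B t) := by
      rw [← map_mul, hbt, AlgHom.commutes]
      rfl
    have h2 : IsUnit (ι.toRingHom (algebraMap P L s)) := by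
      show IsUnit (ι (algebraMap P L s))
      rw [h1]
      exact hb.mul (ht.map _)
    have h3 : IsUnit (algebraMap P L s) := (isUnit_map_iff ι.toRingHom _).1 h2
    have h4 : IsUnit (algebraMap P B s) := of_not_not fun h => by
      have hsq : s ∈ q := (mem_maximalIdeal _).2 h
      rw [hqL] at hsq
      exact (mem_maximalIdeal _).1 hsq h3
    rw [← hbt] at h4
    exact (IsUnit.mul_iff.1 h4).1⟩
  let _ : Algebra L Lb := ι.toRingHom.toAlgebra
  have : IsScalarTower R L Lb := .of_algebraMap_eq fun r => by
    show _ = ι (algebraMap R L r)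
    rw [IsScalarTower.algebraMap_apply R P L, AlgHom.commutes, IsScalarTower.algebraMap_apply R P Lb]
  have : Module.Finite L Lb := Module.Finite.of_surjective (Algebra.linearMap L Lb) hι
  have : Algebra.EssFiniteType R Lb := Algebra.EssFiniteType.comp R L Lb
  let e : Lb ⊗[B] G ≃ₗ[P] L ⊗[P] G :=
    (((TensorProduct.comm B Lb G).restrictScalars P).trans
      ((AlgebraTensorModule.cancelBaseChange P B B G L).restrictScalars P)).trans (TensorProduct.comm P G L)
  intro κ _ ψ
  refine InjFree.of_equiv (N := Lb ⊗[B] G) (fun {κ} _ ψ => H Lb ψ) (LinearEquiv.ofBijective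
    { toFun := e, map_add' := map_add e, map_smul' := fun r x => ?_ } e.bijective) ψ
  rw [← algebraMap_smul P r x, map_smul, algebraMap_smul, RingHom.id_apply]


end Groth.Agent.CAlgH.FlatLocusH
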