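import Groth.Agent.CAlgH.FlatLocusH.Criterion
import Groth.Agent.CAlgH.InjModA.Family
import Groth.Agent.FlatMorDevissage.LocalUniv
import Groth.Agent.EGA43.FlatDescent.Model

/-!
# Injectivity of maps from free modules detected by a family of flat base changes
-/

set_option autoImplicit false
set_option backward.isDefEq.respectTransparency false
set_option linter.style.haveILetI false

universe u

open TensorProduct Function IsLocalRing DirectSum

namespace Groth.Agent.CAlgH.FlatLocusH

open Groth.Agent FlatMorDevissage InjModA EGA43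

attribute [local instance] FlatDescent.bcModule

/-- Flatness at a point of a base change along a flat algebra. -/
theorem flatAt_tensor_flat {R S L G A : Type u} [CommRing R] [CommRing S] [Algebra R S] [CommRing L]
    [Algebra R L] [Algebra S L] [IsScalarTower R S L] [Module.Flat S L] [AddCommGroup G] [Module R G]
    [Module S G] [IsScalarTower R S G] [CommRing A] [Algebra R A] (Q : Ideal (A ⊗[R] L)) [Q.IsPrime]
    [(Q.comap (Algebra.TensorProduct.map (AlgHom.id R A) (IsScalarTower.toAlgHom R S L))).IsPrime]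
    (h : FlatDescent.FlatAt R S G A
      (Q.comap (Algebra.TensorProduct.map (AlgHom.id R A) (IsScalarTower.toAlgHom R S L)))) :
    FlatDescent.FlatAt R L (L ⊗[S] G) A Q := by
  let f := Algebra.TensorProduct.map (AlgHom.id R A) (IsScalarTower.toAlgHom R S L)
  refine FlatDescent.flatAt_of_act fun X Y _ _ _ _ _ _ _ _ i hi x hx => ?_
  let eX := AlgebraTensorModule.assoc R S S L G X
  let eY := AlgebraTensorModule.assoc R S S L G Y
  let iG : G ⊗[R] X →ₗ[S] G ⊗[R] Y := AlgebraTensorModule.lTensor S G (i.restrictScalars R)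
  have hnat : ∀ z, eY ((i.restrictScalars R).lTensor (L ⊗[S] G) z) = iG.lTensor L (eX z) := fun z => by
    induction z using TensorProduct.induction_on with
    | zero => simp
    | add a b ha hb => simp only [map_add, ha, hb]
    | tmul a b =>
      induction a using TensorProduct.induction_on with
      | zero => simp
      | add a a' ha hb => simp only [add_tmul, map_add, ha, hb]
      | tmul l g => rfl
  have hker : iG.lTensor L (eX x) = 0 := by rw [← hnat, hx, map_zero]
  obtain ⟨w, hw⟩ := ((Module.Flat.lTensor_exact L (LinearMap.exact_subtype_ker_map iG)) _).1 hker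
  suffices key : ∀ v, ∃ t ∉ Q,
      eX (FlatDescent.act R L (L ⊗[S] G) A X t (eX.symm ((LinearMap.ker iG).subtype.lTensor L v))) = 0 by
    obtain ⟨t, ht, htx⟩ := key w
    rw [hw, eX.symm_apply_apply] at htx
    exact ⟨t, ht, eX.injective (htx.trans (map_zero eX).symm)⟩
  intro v
  induction v using TensorProduct.induction_on with
  | zero => exact ⟨1, Ideal.one_notMem _, by simp⟩
  | tmul l z =>
    obtain ⟨t, ht, htz⟩ := h.exists_act_eq_zero i hi z.1 z.2
    refine ⟨f t, ht, ?_⟩
    have hact : ∀ (t : A ⊗[R] S) (y : G ⊗[R] X),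
        eX (FlatDescent.act R L (L ⊗[S] G) A X (f t) (eX.symm (l ⊗ₜ[S] y))) =
          l ⊗ₜ[S] FlatDescent.act R S G A X t y := fun t y => by
      induction t using TensorProduct.induction_on with
      | zero => simp
      | add a b ha hb => simp only [map_add, LinearMap.add_apply, tmul_add, ha, hb]
      | tmul a s =>
        induction y using TensorProduct.induction_on with
        | zero => simp
        | add a b ha hb => simp only [map_add, tmul_add, ha, hb]
        | tmul g x' =>
          rw [AlgebraTensorModule.assoc_symm_tmul]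
          show eX (FlatDescent.act R L (L ⊗[S] G) A X (a ⊗ₜ[R] algebraMap S L s) ((l ⊗ₜ[S] g) ⊗ₜ[R] x')) = _
          rw [FlatDescent.act_tmul, FlatDescent.act_tmul, algebraMap_smul, ← tmul_smul,
            AlgebraTensorModule.assoc_tmul]
    rw [LinearMap.lTensor_tmul, Submodule.subtype_apply, hact, htz, tmul_zero]
  | add v v' hv hv' =>
    obtain ⟨t, ht, htv⟩ := hv
    obtain ⟨t', ht', htv'⟩ := hv'
    refine ⟨t * t', fun hm => (Ideal.IsPrime.mem_or_mem ‹Q.IsPrime› hm).elim ht ht', ?_⟩
    have h1 := eX.injective (htv.trans (map_zero eX).symm)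
    have h2 := eX.injective (htv'.trans (map_zero eX).symm)
    rw [map_add, map_add, map_add, map_add]
    conv_lhs => arg 1; rw [mul_comm, map_mul, Module.End.mul_apply, h1, map_zero, map_zero]
    conv_lhs => arg 2; rw [map_mul, Module.End.mul_apply, h2, map_zero, map_zero]
    rw [add_zero]

/-- A finite set of vectors independent on the closed fibre is separated from a power of the maximal
ideal by an additive retraction. -/
theorem exists_retraction {R L G : Type u} [CommRing R] [IsLocalRing R] [CommRing L] [IsLocalRing L]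
    [Algebra R L] [IsLocalHom (algebraMap R L)] [Algebra.EssFiniteType R L] [AddCommGroup G]
    [Module L G] [Module R G] [IsScalarTower R L G] [Module.Finite L G] {κ : Type u} [Fintype κ]
    (ψ : (κ → R) →ₗ[R] G)
    (hψ : ∀ c, ψ c ∈ maximalIdeal R • (⊤ : Submodule R G) →
      c ∈ maximalIdeal R • (⊤ : Submodule R (κ → R))) :
    ∃ (n : ℕ) (r : G →ₗ[R] (κ → ResidueField R)),
      (∀ g ∈ ((maximalIdeal R).map (algebraMap R L) ⊔ maximalIdeal L ^ n) • (⊤ : Submodule L G), r g = 0) ∧
      ∀ c j, r (ψ c) j = residue R (c j) := by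
  classical
  let k := ResidueField R
  let π : (κ → R) →ₗ[R] (κ → k) := LinearMap.pi fun j => (Algebra.linearMap R k).comp (LinearMap.proj j)
  have hπs : Surjective π := fun v => by
    choose w hw using fun j => residue_surjective (v j)
    exact ⟨w, funext hw⟩
  have hπ0 : ∀ c ∈ maximalIdeal R • (⊤ : Submodule R (κ → R)), π c = 0 := fun c hc => by
    refine Submodule.smul_induction_on hc (fun a ha v _ => ?_) fun a b ha hb => by rw [map_add, ha, hb, add_zero]
    funext j
    show residue R (a * v j) = 0
    exact (residue_eq_zero_iff _).2 (Ideal.mul_mem_right _ _ ha)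
  let mL := (maximalIdeal R).map (algebraMap R L)
  let W : ℕ → Submodule L G := fun n => (mL ⊔ maximalIdeal L ^ n) • ⊤
  let U : ℕ →o (Submodule R (κ → k))ᵒᵈ :=
    { toFun := fun n => OrderDual.toDual ((((W n).restrictScalars R).comap ψ).map π)
      monotone' := fun a b hab => Submodule.map_mono (Submodule.comap_mono
        (show W b ≤ W a from Submodule.smul_mono_left (sup_le_sup_left (Ideal.pow_le_pow_right hab) _))) }
  have : IsArtinian R (κ → k) := isArtinian_of_surjective_algebraMap residue_surjective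
  obtain ⟨n, hn⟩ := IsArtinian.monotone_stabilizes U
  -- Krull intersection on the closed fibre
  have hI : ∀ g : G, (∀ l, g ∈ W l) → g ∈ mL • (⊤ : Submodule L G) := by
    let L₀ := L ⧸ mL
    have : Algebra.EssFiniteType (R ⧸ maximalIdeal R) L₀ :=
      have : Algebra.EssFiniteType R L₀ := Algebra.EssFiniteType.comp R L L₀
      Algebra.EssFiniteType.of_comp R (R ⧸ maximalIdeal R) L₀
    let _ := Ideal.Quotient.field (maximalIdeal R)
    have : IsNoetherianRing L₀ := Algebra.EssFiniteType.isNoetherianRing (R ⧸ maximalIdeal R) L₀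
    have hle : mL ≤ maximalIdeal L := Ideal.map_le_iff_le_comap.2 fun a ha => map_nonunit _ a ha
    have : Nontrivial L₀ := Ideal.Quotient.nontrivial_iff.2 fun e => (maximalIdeal.isMaximal L).ne_top
      (top_le_iff.1 (e ▸ hle))
    have : IsLocalRing L₀ := .of_surjective' (Ideal.Quotient.mk mL) Ideal.Quotient.mk_surjective
    let G₀ := G ⧸ mL • (⊤ : Submodule L G)
    have : IsScalarTower L L₀ G₀ := inferInstance
    have : Module.Finite L₀ G₀ := Module.Finite.of_restrictScalars_finite L L₀ G₀
    intro g hg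
    rw [← Submodule.Quotient.mk_eq_zero]
    have hmem : ∀ l, (Submodule.Quotient.mk g : G₀) ∈ maximalIdeal L₀ ^ l • (⊤ : Submodule L₀ G₀) := fun l => by
      refine Submodule.smul_induction_on (hg l) (fun a ha v _ => ?_) fun a b ha hb => by
        rw [Submodule.Quotient.mk_add]; exact add_mem ha hb
      rw [Submodule.Quotient.mk_smul, ← algebraMap_smul L₀ a]
      refine Submodule.smul_mem_smul ?_ Submodule.mem_top
      have : mL.map (algebraMap L L₀) ⊔ (maximalIdeal L).map (algebraMap L L₀) ^ l ≤ maximalIdeal L₀ ^ l := by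
        rw [Ideal.Quotient.algebraMap_eq, Ideal.map_quotient_self, bot_sup_eq,
          IsLocalRing.map_maximalIdeal_of_surjective _ Ideal.Quotient.mk_surjective]
      exact this (by rw [← Ideal.map_pow, ← Ideal.map_sup]; exact Ideal.mem_map_of_mem _ ha)
    have h0 := Ideal.iInf_pow_smul_eq_bot_of_le_jacobson (M := G₀) (maximalIdeal L₀)
      (le_of_eq (jacobson_eq_maximalIdeal ⊥ bot_ne_top).symm)
    exact (Submodule.mem_bot L₀).1 (h0 ▸ Submodule.mem_iInf _ |>.2 hmem)
  have hres : (mL • (⊤ : Submodule L G)).restrictScalars R = maximalIdeal R • (⊤ : Submodule R G) := by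
    rw [Ideal.smul_restrictScalars, Submodule.restrictScalars_top]
  let Y := G ⧸ (W n).restrictScalars R
  let σ₀ : (κ → R) →ₗ[R] Y := ((W n).restrictScalars R).mkQ ∘ₗ ψ
  have hσ0 : ∀ c, σ₀ c = 0 → π c = 0 := fun c hc => by
    have hcn : ∀ l, π c ∈ (((W l).restrictScalars R).comap ψ).map π := fun l => by
      have hmn : π c ∈ OrderDual.ofDual (U n) :=
        Submodule.mem_map_of_mem (show ψ c ∈ W n from (Submodule.Quotient.mk_eq_zero _).1 hc)
      rcases le_total l n with h | h
      · exact U.monotone h hmn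
      · have h' := congrArg OrderDual.ofDual (hn l h)
        rw [h'] at hmn
        exact hmn
    refine hπ0 c (hψ c ?_)
    rw [← hres, Submodule.restrictScalars_mem]
    refine hI _ fun l => ?_
    obtain ⟨d, hd, hdc⟩ := hcn l
    have hcd : c - d ∈ maximalIdeal R • (⊤ : Submodule R (κ → R)) := by
      rw [← Finset.univ_sum_single (c - d)]
      refine Submodule.sum_mem _ fun j _ => ?_
      have hj : (c - d) j ∈ maximalIdeal R := (residue_eq_zero_iff _).1 (by
        have := congrFun hdc j
        rw [Pi.sub_apply, map_sub]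
        exact sub_eq_zero.2 this.symm)
      rw [show Pi.single j ((c - d) j) = (c - d) j • (Pi.single j 1 : κ → R) by
        ext i; by_cases h : i = j <;> simp [h]]
      exact Submodule.smul_mem_smul hj Submodule.mem_top
    have h1 : ψ (c - d) ∈ W l := by
      have := apply_mem_smul_top ψ hcd
      rw [← hres] at this
      exact Submodule.smul_mono_left le_sup_left this
    simpa using add_mem h1 hd
  have htors : Module.IsTorsionBySet R Y (maximalIdeal R) := by
    intro y a
    obtain ⟨g, rfl⟩ := Submodule.mkQ_surjective _ y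
    rw [← map_smul, Submodule.mkQ_apply, Submodule.Quotient.mk_eq_zero]
    show (a : R) • g ∈ W n
    rw [← algebraMap_smul L (a : R) g]
    exact Submodule.smul_mem_smul (Ideal.mem_sup_left (Ideal.mem_map_of_mem _ a.2)) Submodule.mem_top
  let _ := Ideal.Quotient.field (maximalIdeal R)
  let _ : Module (R ⧸ maximalIdeal R) Y := htors.module
  let q : (κ → R) →ₗ[R] (κ → R ⧸ maximalIdeal R) :=
    LinearMap.pi fun j => (Algebra.linearMap R (R ⧸ maximalIdeal R)).comp (LinearMap.proj j)
  let σ : (κ → R ⧸ maximalIdeal R) →ₗ[R ⧸ maximalIdeal R] Y :=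
    Fintype.linearCombination (R ⧸ maximalIdeal R) fun j => σ₀ (Pi.single j 1)
  have hσq : ∀ c, σ (q c) = σ₀ c := fun c => by
    conv_rhs => rw [← Finset.univ_sum_single c, map_sum]
    simp only [σ, Fintype.linearCombination_apply]
    refine Finset.sum_congr rfl fun j _ => ?_
    rw [show q c j • σ₀ (Pi.single j 1) = c j • σ₀ (Pi.single j 1) from algebraMap_smul (R ⧸ maximalIdeal R) (c j) _,
      ← map_smul]
    congr 1
    ext i
    by_cases h : i = j <;> simp [h]
  have hσ : LinearMap.ker σ = ⊥ := LinearMap.ker_eq_bot'.2 fun v hv => by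
    choose w hw using fun j => Ideal.Quotient.mk_surjective (v j)
    have hv' : q w = v := funext hw
    rw [← hv', hσq] at hv
    rw [← hv']
    exact hσ0 w hv
  obtain ⟨ρ, hρ⟩ := σ.exists_leftInverse_of_injective hσ
  refine ⟨n, (ρ.restrictScalars R) ∘ₗ ((W n).restrictScalars R).mkQ, fun g hg => ?_, fun c j => ?_⟩
  · show ρ (Submodule.Quotient.mk g) = 0
    rw [(Submodule.Quotient.mk_eq_zero _).2 (show g ∈ (W n).restrictScalars R from hg), map_zero]
  · show ρ (σ₀ c) j = residue R (c j)
    rw [← hσq, ← LinearMap.comp_apply, hρ]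
    rfl

theorem mem_smul_top_of_lof {A : Type u} [CommRing A] {P : Type u} [DecidableEq P] (M : P → Type u)
    [∀ p, AddCommGroup (M p)] [∀ p, Module A (M p)] (J : Ideal A) {p : P} {x : M p}
    (h : DirectSum.lof A P M p x ∈ J • (⊤ : Submodule A (⨁ p, M p))) : x ∈ J • (⊤ : Submodule A (M p)) := by
  have := apply_mem_smul_top (DirectSum.component A P M p) h
  rwa [DirectSum.component.lof_self] at this

theorem exists_notMem_smul_mem {A T G : Type u} [CommRing A] [CommRing T] [Algebra A T] [AddCommGroup G]
    [Module A G] [Module T G] [IsScalarTower A T G] (Q : Ideal T) [Q.IsPrime] (J : Ideal A) (g : G)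
    (h : (LocalizedModule.mkLinearMap Q.primeCompl G).restrictScalars A g ∈
      J • (⊤ : Submodule A (LocalizedModule Q.primeCompl G))) :
    ∃ t ∉ Q, t • g ∈ J.map (algebraMap A T) • (⊤ : Submodule T G) := by
  obtain ⟨t, ht⟩ := exists_smul_mem_of_map_mem Q.primeCompl (LocalizedModule.mkLinearMap Q.primeCompl G)
    (J.map (algebraMap A T)) g (by
      rw [← Submodule.restrictScalars_mem A, Ideal.smul_restrictScalars, Submodule.restrictScalars_top]
      exact h)
  exact ⟨t, t.2, ht⟩

theorem mem_smul_top_of_forall_localized {A T G : Type u} [CommRing A] [CommRing T] [Algebra A T]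
    [AddCommGroup G] [Module A G] [Module T G] [IsScalarTower A T G] (J : Ideal A) (a b : Ideal T)
    (hJ : J.map (algebraMap A T) ≤ a) (hab : ∀ Q : Ideal T, Q.IsPrime → a ≤ Q → b ≤ Q) (z : G)
    (h : ∀ (Q : Ideal T) [Q.IsPrime], J.map (algebraMap A T) ⊔ b ≤ Q →
      (LocalizedModule.mkLinearMap Q.primeCompl G).restrictScalars A z ∈
        J • (⊤ : Submodule A (LocalizedModule Q.primeCompl G))) :
    z ∈ a • (⊤ : Submodule T G) := by
  let C : Ideal T := (a • (⊤ : Submodule T G)).comap (LinearMap.toSpanSingleton T G z)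
  have hC : C = ⊤ := by
    by_contra hne
    obtain ⟨Q, hQ, hCQ⟩ := Ideal.exists_le_maximal _ hne
    have haQ : a ≤ Q := fun t ht => hCQ (Submodule.smul_mem_smul ht Submodule.mem_top)
    obtain ⟨t, htQ, ht⟩ := exists_notMem_smul_mem Q J z (h Q (sup_le (hJ.trans haQ) (hab Q hQ.isPrime haQ)))
    exact htQ (hCQ (Submodule.smul_mono_left hJ ht))
  have : (1 : T) ∈ C := hC ▸ Submodule.mem_top
  simpa [C] using this

/-- `free_of_family` with several targets. -/
theorem eq_zero_of_family {A : Type u} [CommRing A] [IsLocalRing A] {κ : Type u} [Fintype κ] {P : Type u}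
    (M : P → Type u) [∀ p, AddCommGroup (M p)] [∀ p, Module A (M p)] [∀ p, Module.Flat A (M p)]
    (v : ∀ p, (κ → A) →ₗ[A] M p)
    (hv : ∀ d, (∀ p, v p d ∈ maximalIdeal A • (⊤ : Submodule A (M p))) →
      d ∈ maximalIdeal A • (⊤ : Submodule A (κ → A)))
    (c : κ → A) (hc : ∀ p, v p c = 0) : c = 0 := by
  classical
  have h := free_of_family (fun p => (DirectSum.lof A P M p) ∘ₗ v p)
    (fun d hd => hv d fun p => mem_smul_top_of_lof M _ (hd p)) ⊥ c
    (fun p => by rw [LinearMap.comp_apply, hc, map_zero]; exact zero_mem _)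
  rwa [Submodule.bot_smul, Submodule.mem_bot] at h

/-- A map from a finite free module into a module with flat localizations. -/
theorem eq_zero_of_localized {A T G : Type u} [CommRing A] [IsLocalRing A] [CommRing T] [Algebra A T]
    [AddCommGroup G] [Module A G] [Module T G] [IsScalarTower A T G] (a b : Ideal T)
    (hJ : (maximalIdeal A).map (algebraMap A T) ≤ a) (hab : ∀ Q : Ideal T, Q.IsPrime → a ≤ Q → b ≤ Q)
    (hflat : ∀ (Q : Ideal T) [Q.IsPrime], (maximalIdeal A).map (algebraMap A T) ⊔ b ≤ Q →
      Module.Flat A (LocalizedModule Q.primeCompl G))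
    {κ : Type u} [Fintype κ] (ψ : (κ → A) →ₗ[A] G)
    (hψ : ∀ d, ψ d ∈ a • (⊤ : Submodule T G) → d ∈ maximalIdeal A • (⊤ : Submodule A (κ → A)))
    (c : κ → A) (hc : ψ c = 0) : c = 0 := by
  let P := {Q : Ideal T // Q.IsPrime ∧ (maximalIdeal A).map (algebraMap A T) ⊔ b ≤ Q}
  have : ∀ Q : P, Q.1.IsPrime := fun Q => Q.2.1
  have : ∀ Q : P, Module.Flat A (LocalizedModule Q.1.primeCompl G) := fun Q => hflat Q.1 Q.2.2
  exact eq_zero_of_family (fun Q : P => LocalizedModule Q.1.primeCompl G)
    (fun Q => ((LocalizedModule.mkLinearMap Q.1.primeCompl G).restrictScalars A) ∘ₗ ψ)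
    (fun d hd => hψ d (mem_smul_top_of_forall_localized _ a b hJ hab _ fun Q hQ hle => hd ⟨Q, hQ, hle⟩))
    c fun Q => by rw [LinearMap.comp_apply, hc, map_zero]

/-- **A family of flat base changes with jointly injective structure maps forces `InjFree`.** -/
theorem injFree_of_family {R L G : Type u} [CommRing R] [IsLocalRing R] [CommRing L] [IsLocalRing L]
    [Algebra R L] [IsLocalHom (algebraMap R L)] [Algebra.EssFiniteType R L] [AddCommGroup G]
    [Module L G] [Module R G] [IsScalarTower R L G] [Module.Finite L G] {ι : Type u} (A : ι → Type u)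
    [∀ i, CommRing (A i)] [∀ i, IsLocalRing (A i)] [∀ i, Algebra R (A i)]
    [∀ i, IsLocalHom (algebraMap R (A i))]
    (hinj : ∀ r : R, (∀ i, algebraMap R (A i) r = 0) → r = 0)
    (hflat : ∀ i (Q : Ideal (A i ⊗[R] L)) [Q.IsPrime],
      (maximalIdeal (A i)).map
          (Algebra.TensorProduct.includeLeftRingHom : A i →+* A i ⊗[R] L) ⊔
        (maximalIdeal L).map (Algebra.TensorProduct.includeRight : L →ₐ[R] A i ⊗[R] L) ≤ Q →
      FlatDescent.FlatAt R L G (A i) Q) : InjFree R G := by
  classical
  intro κ _ ψ hψ c hc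
  obtain ⟨n, r, hr, hrψ⟩ := exists_retraction (L := L) ψ hψ
  funext j
  refine hinj _ fun i => ?_
  let A' := A i
  let k' := ResidueField A'
  let ι' : (κ → ResidueField R) →ₗ[R] (κ → k') :=
    { toFun := fun v j => ResidueField.map (algebraMap R A') (v j)
      map_add' := fun v w => funext fun j => map_add _ _ _
      map_smul' := fun a v => funext fun j => by
        simp only [Pi.smul_apply, RingHom.id_apply]
        rw [Algebra.smul_def, Algebra.smul_def, map_mul, ResidueField.algebraMap_eq]
        rfl }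
  let ρ : A' ⊗[R] G →ₗ[A'] (κ → k') := LinearMap.liftBaseChange A' (ι' ∘ₗ r)
  let il : A' →+* A' ⊗[R] L := Algebra.TensorProduct.includeLeftRingHom
  let ir : L →+* A' ⊗[R] L := (Algebra.TensorProduct.includeRight : L →ₐ[R] A' ⊗[R] L).toRingHom
  let mL := (maximalIdeal R).map (algebraMap R L)
  let a : Ideal (A' ⊗[R] L) := (maximalIdeal A').map il ⊔ (mL ⊔ maximalIdeal L ^ n).map ir
  have hsmul : ∀ t ∈ a, ∀ x, ρ (t • x) = 0 := by
    let K : Ideal (A' ⊗[R] L) :=
      { carrier := {t | ∀ x, ρ (t • x) = 0}
        add_mem' := fun hs ht x => by rw [add_smul, map_add, hs x, ht x, add_zero]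
        zero_mem' := fun x => by rw [zero_smul, map_zero]
        smul_mem' := fun s t ht x => by rw [smul_eq_mul, mul_comm, mul_smul]; exact ht _ }
    refine fun t ht => (show a ≤ K from sup_le (Ideal.map_le_iff_le_comap.2 fun b hb x => ?_)
      (Ideal.map_le_iff_le_comap.2 fun l hl x => ?_)) ht
    · show ρ (algebraMap A' (A' ⊗[R] L) b • x) = 0
      rw [algebraMap_smul, map_smul]
      funext j
      rw [Pi.smul_apply, Algebra.smul_def, ResidueField.algebraMap_eq, (residue_eq_zero_iff b).2 hb,
        zero_mul, Pi.zero_apply]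
    · induction x using TensorProduct.induction_on with
      | zero => rw [smul_zero, map_zero]
      | add x y hx hy => rw [smul_add, map_add, hx, hy, add_zero]
      | tmul b g =>
        show ρ (((1 : A') ⊗ₜ[R] l) • (b ⊗ₜ[R] g)) = 0
        rw [FlatDescent.bc_smul_tmul, one_mul, LinearMap.liftBaseChange_tmul, LinearMap.comp_apply,
          hr _ (Submodule.smul_mem_smul hl Submodule.mem_top), map_zero, smul_zero]
  let ψ' : (κ → A') →ₗ[A'] A' ⊗[R] G :=
    Fintype.linearCombination A' fun j => (1 : A') ⊗ₜ[R] ψ (Pi.single j 1)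
  have hψ' : ∀ d : κ → R, ψ' (fun j => algebraMap R A' (d j)) = (1 : A') ⊗ₜ[R] ψ d := fun d => by
    conv_rhs => rw [← Finset.univ_sum_single d, map_sum, tmul_sum]
    simp only [ψ', Fintype.linearCombination_apply]
    refine Finset.sum_congr rfl fun j _ => ?_
    rw [algebraMap_smul, ← tmul_smul, ← map_smul]
    congr 2
    ext i
    by_cases h : i = j <;> simp [h]
  have hρψ : ∀ d j, ρ (ψ' d) j = residue A' (d j) := fun d j => by
    have hj : ∀ j' : κ, ρ ((1 : A') ⊗ₜ[R] ψ (Pi.single j' 1)) j = if j = j' then 1 else 0 := fun j' => by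
      rw [LinearMap.liftBaseChange_tmul, one_smul, LinearMap.comp_apply]
      show ResidueField.map (algebraMap R A') (r (ψ (Pi.single j' 1)) j) = _
      rw [hrψ, Pi.single_apply]
      split <;> simp
    simp only [ψ', Fintype.linearCombination_apply, map_sum, map_smul, Finset.sum_apply, Pi.smul_apply, hj]
    rw [Finset.sum_eq_single j (fun j' _ h => by rw [if_neg (Ne.symm h), smul_zero])
      (fun h => absurd (Finset.mem_univ j) h), if_pos rfl, Algebra.smul_def, mul_one]
    rfl
  have hv : ∀ d, ψ' d ∈ a • (⊤ : Submodule (A' ⊗[R] L) (A' ⊗[R] G)) →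
      d ∈ maximalIdeal A' • (⊤ : Submodule A' (κ → A')) := by
    intro d hmem
    have h0 : ρ (ψ' d) = 0 := Submodule.smul_induction_on hmem (fun t ht x _ => hsmul t ht x)
      fun x y hx hy => by rw [map_add, hx, hy, add_zero]
    rw [← Finset.univ_sum_single d]
    refine Submodule.sum_mem _ fun j _ => ?_
    have hj : d j ∈ maximalIdeal A' := (residue_eq_zero_iff _).1 (by rw [← hρψ, h0]; rfl)
    rw [show Pi.single j (d j) = d j • (Pi.single j 1 : κ → A') by
      ext i; by_cases h : i = j <;> simp [h]]
    exact Submodule.smul_mem_smul hj Submodule.mem_top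
  have h := eq_zero_of_localized (A := A') (T := A' ⊗[R] L) (G := A' ⊗[R] G) a
    ((maximalIdeal L).map ir) le_sup_left
    (fun Q hQ haQ => Ideal.map_le_iff_le_comap.2 fun l hl => hQ.mem_of_pow_mem n (by
      rw [← map_pow]
      exact haQ (Ideal.mem_sup_right (Ideal.mem_map_of_mem _ (Ideal.mem_sup_right (Ideal.pow_mem_pow hl n))))))
    (fun Q _ hQ => hflat i Q hQ) ψ' hv (fun j => algebraMap R A' (c j))
    (by rw [hψ', hc, tmul_zero])
  exact congrFun h j

end Groth.Agent.CAlgH.FlatLocusH
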