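import Groth.Agent.CAlgH.FlatLocusH.Family
import Groth.Agent.FlatMor12.FlatteningUniversal
import Groth.Agent.S6928
import Groth.Agent.HenselLib.Perm

/-!
# The ideal of the flat locus over a henselian local ring
-/

set_option autoImplicit false
set_option backward.isDefEq.respectTransparency false
set_option linter.style.haveILetI false

universe u

open TensorProduct Function IsLocalRing

namespace Groth.Agent.CAlgH.FlatLocusH

open Groth.Agent FlatMorDevissage InjModA EGA43

attribute [local instance] FlatDescent.bcModule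

theorem henselianLocalRing_quot {A : Type u} [CommRing A] [HenselianLocalRing A] (a : Ideal A)
    [IsLocalRing (A ⧸ a)] : HenselianLocalRing (A ⧸ a) := by
  have : HenselianRing A (maximalIdeal A) := HenselLib.henselianRing_maximalIdeal A
  have h := HenselLib.henselianRing_quotient (maximalIdeal A) a
  rw [IsLocalRing.map_maximalIdeal_of_surjective _ Ideal.Quotient.mk_surjective] at h
  exact ⟨fun f hf a₀ h₀ h₁ => h.is_henselian f hf a₀ h₀ (h₁.map _)⟩

variable {A B M : Type u} [CommRing A] [HenselianLocalRing A] [CommRing B] [IsLocalRing B] [Algebra A B]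
  [IsLocalHom (algebraMap A B)] [Algebra.EssFiniteType A B] [AddCommGroup M] [Module B M] [Module A M]
  [IsScalarTower A B M] [Module.Finite B M]

/-- Flatness of base changes at the points over both closed points gives flatness modulo the common
kernel. -/
theorem quotFlat_of_family {ι : Type u} (A' : ι → Type u) [∀ i, CommRing (A' i)] [∀ i, IsLocalRing (A' i)]
    [∀ i, Algebra A (A' i)] [∀ i, IsLocalHom (algebraMap A (A' i))] (J : Ideal A)
    (hJm : J ≤ maximalIdeal A) (hJ : ∀ a, a ∈ J ↔ ∀ i, algebraMap A (A' i) a = 0)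
    (hflat : ∀ i (Q : Ideal (A' i ⊗[A] B)) [Q.IsPrime],
      (maximalIdeal (A' i)).map (Algebra.TensorProduct.includeLeftRingHom : A' i →+* A' i ⊗[A] B) ⊔
        (maximalIdeal B).map (Algebra.TensorProduct.includeRight : B →ₐ[A] A' i ⊗[A] B) ≤ Q →
      FlatDescent.FlatAt A B M (A' i) Q) :
    Module.Flat (A ⧸ J) ((A ⧸ J) ⊗[A] M) := by
  let R := A ⧸ J
  have : Nontrivial R := Ideal.Quotient.nontrivial_iff.2 fun e => (maximalIdeal.isMaximal A).ne_top
    (top_le_iff.1 (e ▸ hJm))
  have : IsLocalRing R := .of_surjective' (Ideal.Quotient.mk J) Ideal.Quotient.mk_surjective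
  have : HenselianLocalRing R := henselianLocalRing_quot J
  have hmR : (maximalIdeal A).map (Ideal.Quotient.mk J) = maximalIdeal R :=
    IsLocalRing.map_maximalIdeal_of_surjective _ Ideal.Quotient.mk_surjective
  let _ : ∀ i, Algebra R (A' i) := fun i =>
    (Ideal.Quotient.lift J (algebraMap A (A' i)) fun a ha => (hJ a).1 ha i).toAlgebra
  have : ∀ i, IsScalarTower A R (A' i) := fun i => .of_algebraMap_eq fun _ => rfl
  have : ∀ i, IsLocalHom (algebraMap R (A' i)) := fun i => ⟨fun x hx => by
    obtain ⟨a, rfl⟩ := Ideal.Quotient.mk_surjective x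
    exact (IsUnit.of_map (algebraMap A (A' i)) a hx).map _⟩
  let BR := R ⊗[A] B
  let ir : B →ₐ[A] BR := Algebra.TensorProduct.includeRight
  have hir : Surjective ir := fun z => by
    induction z using TensorProduct.induction_on with
    | zero => exact ⟨0, map_zero _⟩
    | add x y hx hy =>
      obtain ⟨x, rfl⟩ := hx
      obtain ⟨y, rfl⟩ := hy
      exact ⟨x + y, map_add _ _ _⟩
    | tmul r b =>
      obtain ⟨a, rfl⟩ := Ideal.Quotient.mk_surjective r
      refine ⟨a • b, ?_⟩
      show (1 : R) ⊗ₜ[A] (a • b) = _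
      rw [← smul_tmul, Algebra.smul_def, mul_one]
      rfl
  have : Nontrivial BR := by
    let f : BR →ₐ[A] ResidueField B :=
      Algebra.TensorProduct.lift (Ideal.Quotient.liftₐ J (Algebra.ofId A (ResidueField B)) fun a ha => by
        show algebraMap A (ResidueField B) a = 0
        rw [IsScalarTower.algebraMap_apply A B (ResidueField B)]
        exact (residue_eq_zero_iff _).2 (map_nonunit (algebraMap A B) a (hJm ha)))
        (IsScalarTower.toAlgHom A B (ResidueField B)) fun _ _ => .all _ _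
    exact f.toRingHom.domain_nontrivial
  have : IsLocalRing BR := .of_surjective' ir.toRingHom hir
  have : IsLocalHom ir.toRingHom := .of_surjective _ hir
  have : IsLocalHom (algebraMap R BR) := ⟨fun x hx => by
    obtain ⟨a, rfl⟩ := Ideal.Quotient.mk_surjective x
    have h1 : IsUnit (ir.toRingHom (algebraMap A B a)) := by
      show IsUnit (ir (algebraMap A B a))
      rw [ir.commutes, IsScalarTower.algebraMap_apply A R BR]
      exact hx
    exact (IsUnit.of_map (algebraMap A B) a ((isUnit_map_iff ir.toRingHom _).1 h1)).map _⟩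
  have : Algebra.EssFiniteType R BR := inferInstance
  have : Module.Finite BR (R ⊗[A] M) := FlatDescent.finite_bc A B M R
  refine flat_of_injFree (B := BR) fun L _ _ _ _ _ _ _ _ => ?_
  have : IsLocalHom (algebraMap R L) := ⟨fun x hx => by
    rw [IsScalarTower.algebraMap_apply R BR L] at hx
    exact IsUnit.of_map (algebraMap R BR) x (IsUnit.of_map (algebraMap BR L) _ hx)⟩
  intro κ _ ψ
  refine injFree_of_family (L := L) A' (fun r hr => ?_) (fun i Q _ hQ => ?_) ψ
  · obtain ⟨a, rfl⟩ := Ideal.Quotient.mk_surjective r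
    exact Ideal.Quotient.eq_zero_iff_mem.2 ((hJ a).2 hr)
  let Q₀ := Q.comap (Algebra.TensorProduct.map (AlgHom.id R (A' i)) (IsScalarTower.toAlgHom R BR L))
  have : Q₀.IsPrime := Ideal.IsPrime.comap _
  refine flatAt_tensor_flat (S := BR) Q (FlatDescent.flatAt_of_act fun X Y _ _ _ _ _ _ _ _ j hj x hx => ?_)
  let φ : A' i ⊗[A] B →+* A' i ⊗[R] BR :=
    (Algebra.TensorProduct.cancelBaseChange A R (A' i) (A' i) B).symm.toRingEquiv.toRingHom
  have hφ : ∀ a b, φ (a ⊗ₜ[A] b) = a ⊗ₜ[R] ((1 : R) ⊗ₜ[A] b) := fun a b =>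
    Algebra.TensorProduct.cancelBaseChange_symm_tmul A R (A' i) (A' i) B a b
  have : (Q₀.comap φ).IsPrime := Ideal.IsPrime.comap _
  let _ : Module A X := Module.compHom X (algebraMap A R)
  let _ : Module A Y := Module.compHom Y (algebraMap A R)
  have : IsScalarTower A R X := .of_algebraMap_smul fun _ _ => rfl
  have : IsScalarTower A R Y := .of_algebraMap_smul fun _ _ => rfl
  have : IsScalarTower A (A' i) X := .of_algebraMap_smul fun a y => by
    rw [IsScalarTower.algebraMap_apply A R (A' i), algebraMap_smul, algebraMap_smul]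
  have : IsScalarTower A (A' i) Y := .of_algebraMap_smul fun a y => by
    rw [IsScalarTower.algebraMap_apply A R (A' i), algebraMap_smul, algebraMap_smul]
  have hQ₀ : (maximalIdeal (A' i)).map
        (Algebra.TensorProduct.includeLeftRingHom : A' i →+* A' i ⊗[A] B) ⊔
      (maximalIdeal B).map (Algebra.TensorProduct.includeRight : B →ₐ[A] A' i ⊗[A] B) ≤ Q₀.comap φ := by
    refine sup_le (Ideal.map_le_iff_le_comap.2 fun a ha => ?_) (Ideal.map_le_iff_le_comap.2 fun b hb => ?_)
    · show Algebra.TensorProduct.map (AlgHom.id R (A' i)) (IsScalarTower.toAlgHom R BR L)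
        (φ (a ⊗ₜ[A] (1 : B))) ∈ Q
      rw [hφ, ← Algebra.TensorProduct.one_def, Algebra.TensorProduct.map_tmul, map_one]
      exact hQ (Ideal.mem_sup_left (Ideal.mem_map_of_mem _ ha))
    · show Algebra.TensorProduct.map (AlgHom.id R (A' i)) (IsScalarTower.toAlgHom R BR L)
        (φ ((1 : A' i) ⊗ₜ[A] b)) ∈ Q
      rw [hφ, Algebra.TensorProduct.map_tmul]
      exact hQ (Ideal.mem_sup_right (Ideal.mem_map_of_mem _
        (map_nonunit (algebraMap BR L) _ (map_nonunit ir.toRingHom b hb))))
  let cX := FlatDescent.cancel A M R X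
  let cY := FlatDescent.cancel A M R Y
  have hx' : (j.restrictScalars A).lTensor M (cX x) = 0 := by
    show ((j.restrictScalars R).restrictScalars A).lTensor M (cX x) = 0
    rw [← FlatDescent.cancel_lTensor (j.restrictScalars R) x, hx, map_zero]
  obtain ⟨t, ht, htx⟩ := (hflat i (Q₀.comap φ) hQ₀).exists_act_eq_zero j hj (cX x) hx'
  refine ⟨φ t, ht, cX.injective ?_⟩
  rw [map_zero, ← htx]
  clear htx ht hx' hx
  induction t using TensorProduct.induction_on with
  | zero => simp
  | add a b ha hb => simp only [map_add, LinearMap.add_apply, ha, hb]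
  | tmul a s =>
    induction x using TensorProduct.induction_on with
    | zero => simp
    | add u v hu hv => simp only [map_add, hu, hv]
    | tmul y w =>
      induction y using TensorProduct.induction_on with
      | zero => simp
      | add u v hu hv => simp only [add_tmul, map_add, hu, hv]
      | tmul c m =>
        rw [hφ, FlatDescent.act_tmul, FlatDescent.bc_smul_tmul, one_mul]
        show FlatDescent.cancel A M R X _ = FlatDescent.act A B M (A' i) X (a ⊗ₜ s) (FlatDescent.cancel A M R X _)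
        rw [FlatDescent.cancel_tmul, FlatDescent.cancel_tmul, FlatDescent.act_tmul, smul_comm c a w]

/-- Conversely, flatness modulo an ideal killed in the base change gives flatness at every point. -/
theorem flatAt_of_quot (I : Ideal A) (h : Module.Flat (A ⧸ I) ((A ⧸ I) ⊗[A] M)) (A' : Type u)
    [CommRing A'] [Algebra A A'] (hI : I ≤ RingHom.ker (algebraMap A A')) (Q : Ideal (A' ⊗[A] B))
    [Q.IsPrime] : FlatDescent.FlatAt A B M A' Q := by
  refine FlatDescent.flatAt_of_act fun X Y _ _ _ _ _ _ _ _ i hi x hx => ⟨1, Ideal.one_notMem _, ?_⟩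
  have hq : FlatCrit.QuotFlat A M I := (FlatMor12.FlatteningIdeal.quotFlat_iff I).2 h
  have hinj : Injective ((i.restrictScalars A).lTensor M) :=
    (LinearMap.lTensor_inj_iff_rTensor_inj (M := M) (f := i.restrictScalars A)).2
      (hq (i.restrictScalars A) (fun r hr b => by
        rw [← algebraMap_smul A' r b, RingHom.mem_ker.1 (hI hr), zero_smul]) hi)
  rw [map_one, Module.End.one_apply]
  exact hinj (hx.trans (map_zero _).symm)

variable (A B M) in
/-- The flat locus ideal. -/
def flatIdeal : Ideal A :=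
  sInf {J | J ≤ maximalIdeal A ∧ Module.Flat (A ⧸ J) ((A ⧸ J) ⊗[A] M)}

theorem flatIdeal_le : flatIdeal A M ≤ maximalIdeal A := by
  refine sInf_le ⟨le_rfl, ?_⟩
  let _ := Ideal.Quotient.field (maximalIdeal A)
  infer_instance

theorem flat_flatIdeal (B : Type u) [CommRing B] [IsLocalRing B] [Algebra A B] [IsLocalHom (algebraMap A B)]
    [Algebra.EssFiniteType A B] [Module B M] [IsScalarTower A B M] [Module.Finite B M] : Module.Flat (A ⧸ flatIdeal A M) ((A ⧸ flatIdeal A M) ⊗[A] M) := by
  let ι := {J : Ideal A // J ≤ maximalIdeal A ∧ Module.Flat (A ⧸ J) ((A ⧸ J) ⊗[A] M)}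
  have hnt : ∀ i : ι, Nontrivial (A ⧸ i.1) := fun i => Ideal.Quotient.nontrivial_iff.2 fun e =>
    (maximalIdeal.isMaximal A).ne_top (top_le_iff.1 (e ▸ i.2.1))
  have : ∀ i : ι, IsLocalRing (A ⧸ i.1) := fun i =>
    .of_surjective' (Ideal.Quotient.mk i.1) Ideal.Quotient.mk_surjective
  have : ∀ i : ι, IsLocalHom (algebraMap A (A ⧸ i.1)) := fun i =>
    .of_surjective _ Ideal.Quotient.mk_surjective
  refine quotFlat_of_family (B := B) (fun i : ι => A ⧸ i.1) _ flatIdeal_le (fun a => ?_) fun i Q _ _ => ?_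
  · simp only [flatIdeal, Submodule.mem_sInf, Ideal.Quotient.algebraMap_eq, Ideal.Quotient.eq_zero_iff_mem]
    exact ⟨fun h i => h i.1 i.2, fun h J hJ => h ⟨J, hJ⟩⟩
  · have := i.2.2
    exact FlatDescent.flatAt_of_flat Q

variable {A' B' M' : Type u} [CommRing A'] [IsLocalRing A'] [Algebra A A'] [IsLocalHom (algebraMap A A')]
  [CommRing B'] [Algebra B B'] [Algebra A' B'] [Algebra A B'] [IsScalarTower A B B']
  [IsScalarTower A A' B'] [Algebra.IsPushout A B A' B']
  [AddCommGroup M'] [Module B' M'] [Module B M'] [IsScalarTower B B' M'] [Module A' M']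
  [IsScalarTower A' B' M']

/-- **The universal property of the flat locus ideal.** -/
theorem flatAt_iff_map_flatIdeal_eq_bot (f : M →ₗ[B] M') (hf : IsBaseChange B' f) :
    (∀ (q : Ideal B') [q.IsPrime],
      (maximalIdeal A').map (algebraMap A' B') ⊔ (maximalIdeal B).map (algebraMap B B') ≤ q →
        FlatCA.FlatAt A' q M') ↔ (flatIdeal A M).map (algebraMap A A') = ⊥ := by
  obtain ⟨ψ, hψ, htr⟩ := FlatMor12.FlatteningUniversal.exists_transport (R := A) (R' := A') f hf
  rw [Ideal.map_eq_bot_iff_le_ker]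
  constructor
  · intro h
    let J := RingHom.ker (algebraMap A A')
    have hJm : J ≤ maximalIdeal A := fun a ha => (mem_maximalIdeal a).2 fun hu =>
      not_isUnit_zero (M₀ := A') (RingHom.mem_ker.1 ha ▸ hu.map (algebraMap A A'))
    refine sInf_le ⟨hJm, quotFlat_of_family (B := B) (fun _ : PUnit.{u + 1} => A') J hJm
      (fun a => ⟨fun ha _ => ha, fun h => h ⟨⟩⟩) fun _ Q _ hQ => ?_⟩
    let q' : Ideal B' := Q.comap ψ.symm.toRingEquiv.toRingHom
    have hq'Q : q'.comap ψ.toRingEquiv.toRingHom = Q := by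
      ext z
      show ψ.symm (ψ z) ∈ Q ↔ _
      rw [ψ.symm_apply_apply]
    have := (htr q').1 (h q' ?_)
    · convert this using 1
      exact hq'Q.symm
    refine sup_le (Ideal.map_le_iff_le_comap.2 fun a ha => ?_) (Ideal.map_le_iff_le_comap.2 fun b hb => ?_)
    · show ψ.symm (algebraMap A' B' a) ∈ Q
      rw [ψ.symm.commutes]
      exact hQ (Ideal.mem_sup_left (Ideal.mem_map_of_mem _ ha))
    · show ψ.symm (algebraMap B B' b) ∈ Q
      rw [show algebraMap B B' b = ψ ((1 : A') ⊗ₜ[A] b) by rw [hψ, one_smul], ψ.symm_apply_apply]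
      exact hQ (Ideal.mem_sup_right (Ideal.mem_map_of_mem _ hb))
  · intro h q' _ _
    exact (htr q').2 (flatAt_of_quot _ (flat_flatIdeal B) A' h _)

attribute [local instance] Algebra.TensorProduct.rightAlgebra

/-- The flat locus ideal is finitely generated in the finitely presented case. -/
theorem flatIdeal_fg (hB : FlatCA.EssFinitePresentation A B) [Module.FinitePresentation B M] :
    (flatIdeal A M).FG := by
  let I₀ := flatIdeal A M
  let ι := {J : Ideal A // J.FG ∧ J ≤ I₀}
  let G : ι → Type u := fun i => A ⧸ i.1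
  have hle : ∀ i : ι, i.1 ≤ maximalIdeal A := fun i => i.2.2.trans flatIdeal_le
  let R' := A ⧸ I₀
  let g : ∀ i j : ι, i ≤ j → G i →+* G j := fun i j h => Ideal.Quotient.factor h
  let _ : ∀ i, Algebra (G i) R' := fun i => (Ideal.Quotient.factor i.2.2).toAlgebra
  have : ∀ i, IsScalarTower A (G i) R' := fun i => .of_algebraMap_eq fun _ => rfl
  have hcolim : FlatCA.IsDirectedColimitRing G g R' := by
    refine ⟨⟨fun i j => ⟨⟨i.1 ⊔ j.1, Submodule.FG.sup i.2.1 j.2.1, sup_le i.2.2 j.2.2⟩, (le_sup_left : i.1 ≤ i.1 ⊔ j.1), (le_sup_right : j.1 ≤ i.1 ⊔ j.1)⟩⟩,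
      ⟨⟨⊥, Submodule.fg_bot, bot_le⟩⟩, fun i => ?_, fun i j k hij hjk => ?_, fun i j h => ?_, fun a => ?_,
      fun i x hx => ?_⟩
    · exact Ideal.Quotient.ringHom_ext (RingHom.ext fun _ => rfl)
    · exact Ideal.Quotient.ringHom_ext (RingHom.ext fun _ => rfl)
    · exact Ideal.Quotient.ringHom_ext (RingHom.ext fun _ => rfl)
    · obtain ⟨a, rfl⟩ := Ideal.Quotient.mk_surjective a
      exact ⟨⟨⊥, Submodule.fg_bot, bot_le⟩, Ideal.Quotient.mk _ a, rfl⟩
    · obtain ⟨a, rfl⟩ := Ideal.Quotient.mk_surjective x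
      have ha : a ∈ I₀ := Ideal.Quotient.eq_zero_iff_mem.1 hx
      refine ⟨⟨i.1 ⊔ Ideal.span {a}, Submodule.FG.sup i.2.1 (Submodule.fg_span_singleton a),
        sup_le i.2.2 ((Ideal.span_singleton_le_iff_mem _).2 ha)⟩, (le_sup_left : i.1 ≤ i.1 ⊔ Ideal.span {a}), ?_⟩
      exact Ideal.Quotient.eq_zero_iff_mem.2 (Ideal.mem_sup_right (Ideal.mem_span_singleton_self a))
  let Il : ∀ i, Ideal (G i) := fun i => (maximalIdeal A).map (Ideal.Quotient.mk i.1)
  have hnt : ∀ J : Ideal A, J ≤ maximalIdeal A → Nontrivial (A ⧸ J) := fun J hJ =>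
    Ideal.Quotient.nontrivial_iff.2 fun e => (maximalIdeal.isMaximal A).ne_top (top_le_iff.1 (e ▸ hJ))
  have := hnt I₀ flatIdeal_le
  have : IsLocalRing R' := .of_surjective' (Ideal.Quotient.mk I₀) Ideal.Quotient.mk_surjective
  have : IsLocalHom (algebraMap A R') := .of_surjective _ Ideal.Quotient.mk_surjective
  let f' : M →ₗ[B] (R' ⊗[A] B) ⊗[B] M := TensorProduct.mk B (R' ⊗[A] B) M 1
  have hf' : IsBaseChange (R' ⊗[A] B) f' := TensorProduct.isBaseChange B M _
  have key := S6928.result hB (M := M) G g (fun i j h => RingHom.ext fun _ => rfl) R' hcolim Il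
    (fun i j h => by rw [Ideal.map_map]; exact le_rfl) (S' := R' ⊗[A] B) (M' := (R' ⊗[A] B) ⊗[B] M)
  have hiff := flatAt_iff_map_flatIdeal_eq_bot (A := A) (B := B) (M := M) (A' := R') (B' := R' ⊗[A] B)
    (M' := (R' ⊗[A] B) ⊗[B] M) f'
  have hsup : maximalIdeal R' ≤ ⨆ i, (Il i).map (algebraMap (G i) R') := by
    have hmR' : maximalIdeal R' = (maximalIdeal A).map (Ideal.Quotient.mk I₀) :=
      (IsLocalRing.map_maximalIdeal_of_surjective _ Ideal.Quotient.mk_surjective).symm
    refine le_iSup_of_le (⟨⊥, Submodule.fg_bot, bot_le⟩ : ι) ?_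
    rw [hmR', Ideal.map_map]
    exact le_rfl
  obtain ⟨i, hi⟩ := key f' hf' (maximalIdeal B)
    (fun q' _ hq' => (hiff hf').2
      (Ideal.map_quotient_self I₀) q' (le_trans (sup_le_sup_right (Ideal.map_mono hsup) _) hq'))
  · have := hnt i.1 (hle i)
    have : IsLocalRing (G i) := .of_surjective' (Ideal.Quotient.mk i.1) Ideal.Quotient.mk_surjective
    have : IsLocalHom (algebraMap A (G i)) := .of_surjective _ Ideal.Quotient.mk_surjective
    have hmG : Il i = maximalIdeal (G i) :=
      IsLocalRing.map_maximalIdeal_of_surjective _ Ideal.Quotient.mk_surjective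
    let fi : M →ₗ[B] (G i ⊗[A] B) ⊗[B] M := TensorProduct.mk B (G i ⊗[A] B) M 1
    have hfi : IsBaseChange (G i ⊗[A] B) fi := TensorProduct.isBaseChange B M _
    have hiffi := flatAt_iff_map_flatIdeal_eq_bot (A := A) (B := B) (M := M) (A' := G i)
      (B' := G i ⊗[A] B) (M' := (G i ⊗[A] B) ⊗[B] M) fi
    have hi' := hi (G i ⊗[A] B) ((G i ⊗[A] B) ⊗[B] M) fi
    have h0 := (hiffi hfi).1 fun q _ hq => hi' hfi q (by rw [hmG]; exact hq)
    have : I₀ ≤ i.1 := fun a ha => Ideal.Quotient.eq_zero_iff_mem.1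
      ((Submodule.eq_bot_iff _).1 h0 _ (Ideal.mem_map_of_mem _ ha))
    have e : i.1 = flatIdeal A M := le_antisymm i.2.2 this
    exact e ▸ i.2.1

end Groth.Agent.CAlgH.FlatLocusH
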