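import Groth.Agent.CAlgH.InjModA.Detect

/-!
# Flatness along a chain from injectivity of maps from free modules

At the point of a chain over a local ring `R`, a module is flat as soon as every map to it from a
finite free module which is injective modulo the maximal ideal is injective.
-/

set_option autoImplicit false
set_option backward.isDefEq.respectTransparency false

universe u

open TensorProduct Function IsLocalRing

namespace Groth.Agent.CAlgH.FlatLocusH

open Groth.Agent FlatMorDevissage InjModA

/-- Maps from finite free modules which are injective modulo the maximal ideal are injective. -/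
def InjFree (R G : Type u) [CommRing R] [IsLocalRing R] [AddCommGroup G] [Module R G] : Prop :=
  ∀ {κ : Type u} [Fintype κ] (ψ : (κ → R) →ₗ[R] G),
    (∀ c, ψ c ∈ maximalIdeal R • (⊤ : Submodule R G) →
      c ∈ maximalIdeal R • (⊤ : Submodule R (κ → R))) → ∀ c, ψ c = 0 → c = 0

/-- `InjFree` forces flatness. -/
def FlatOfInj (R G : Type u) [CommRing R] [IsLocalRing R] [AddCommGroup G] [Module R G] : Prop :=
  InjFree R G → Module.Flat R G

variable {R : Type u} [CommRing R] [IsLocalRing R] {N : Type u} [AddCommGroup N] [Module R N]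

theorem InjFree.of_equiv {N' : Type u} [AddCommGroup N'] [Module R N'] (h : InjFree R N)
    (e : N ≃ₗ[R] N') : InjFree R N' := fun {κ} _ ψ hψ c hc =>
  h (e.symm.toLinearMap ∘ₗ ψ)
    (fun d hd => hψ d (by simpa using apply_mem_smul_top e.toLinearMap hd)) c (by simp [hc])

theorem FlatOfInj.of_equiv {N' : Type u} [AddCommGroup N'] [Module R N'] (h : FlatOfInj R N)
    (e : N ≃ₗ[R] N') : FlatOfInj R N' := fun hN' =>
  have := h (hN'.of_equiv e.symm)
  Module.Flat.of_linearEquiv e.symm

theorem InjFree.detects_free (hN : InjFree R N) {F : Type u} [AddCommGroup F] [Module R F]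
    [Module.Free R F] (w : F →ₗ[R] N)
    (hw : ∀ x, w x ∈ maximalIdeal R • (⊤ : Submodule R N) → x ∈ maximalIdeal R • (⊤ : Submodule R F))
    (x : F) (hx : w x = 0) : x = 0 := by
  classical
  let b := Module.Free.chooseBasis R F
  let I := (b.repr x).support
  let inc : (I → R) →ₗ[R] F := Fintype.linearCombination R fun i : I => b i
  let prj : F →ₗ[R] (I → R) := LinearMap.pi fun i : I => b.coord i
  have hpi : ∀ c, prj (inc c) = c := fun c => funext fun i => by
    simp only [prj, inc, LinearMap.pi_apply, Fintype.linearCombination_apply, Module.Basis.coord_apply,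
      map_sum, map_smul, Module.Basis.repr_self, Finsupp.coe_finsetSum, Finset.sum_apply, Finsupp.smul_apply,
      Finsupp.single_apply, smul_eq_mul, mul_ite, mul_one, mul_zero, Subtype.coe_inj,
      Finset.sum_ite_eq', Finset.mem_univ, if_true]
  have hx' : inc (prj x) = x := by
    conv_rhs => rw [← b.linearCombination_repr x, Finsupp.linearCombination_apply, Finsupp.sum,
      ← Finset.sum_coe_sort]
    simp [inc, prj, I, Fintype.linearCombination_apply]
  have h0 := hN (w ∘ₗ inc)
    (fun c hc => by
      have := apply_mem_smul_top prj (hw _ hc)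
      rwa [hpi] at this)
    (prj x) (by rw [LinearMap.comp_apply, hx', hx])
  rw [← hx', h0, map_zero]

theorem FlatOfInj.of_subsingleton [Subsingleton N] : FlatOfInj R N := fun _ => inferInstance

/-- One step: a free piece and a cokernel with the property. -/
theorem FlatOfInj.of_exact {N₁ N₂ : Type u} [AddCommGroup N₁] [Module R N₁] [Module.Flat R N₁]
    [AddCommGroup N₂] [Module R N₂] (a : N₁ →ₗ[R] N) (b : N →ₗ[R] N₂) (hab : Exact a b)
    (hb : Surjective b) (h₂ : FlatOfInj R N₂) (F : Type u) [AddCommGroup F] [Module R F] [Module.Free R F]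
    (h₁ : ∀ v : N₁, ∃ (w : F →ₗ[R] N₁) (x : F), w x = v ∧
      ∀ x', a (w x') ∈ maximalIdeal R • (⊤ : Submodule R N) → x' ∈ maximalIdeal R • (⊤ : Submodule R F)) :
    FlatOfInj R N := fun hN => by
  have hinj : InjFree R N₂ := fun {κ} _ ψ hψ c hc => by
    classical
    choose l hl using fun i : κ => hb (ψ (Pi.single i 1))
    let ψ' : (κ → R) →ₗ[R] N := Fintype.linearCombination R l
    have hψ' : ∀ d, b (ψ' d) = ψ d := fun d => by
      conv_rhs => rw [← Finset.univ_sum_single d, map_sum]
      simp only [ψ', Fintype.linearCombination_apply, map_sum, map_smul, hl]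
      refine Finset.sum_congr rfl fun i _ => ?_
      rw [← map_smul]
      congr 1
      ext j
      by_cases h : j = i <;> simp [Pi.single_apply, h]
    obtain ⟨v, hv⟩ := (hab (ψ' c)).1 ((hψ' c).trans hc)
    obtain ⟨w, x, rfl, hw⟩ := h₁ v
    let w' : (κ → R) × F →ₗ[R] N := ψ'.coprod (a ∘ₗ w)
    have hw' : ∀ z : (κ → R) × F, w' z ∈ maximalIdeal R • (⊤ : Submodule R N) →
        z ∈ maximalIdeal R • (⊤ : Submodule R ((κ → R) × F)) := by
      rintro ⟨d, x'⟩ hz
      have hd : d ∈ maximalIdeal R • (⊤ : Submodule R (κ → R)) := hψ d (by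
        have := apply_mem_smul_top b hz
        simpa only [w', LinearMap.coprod_apply, LinearMap.comp_apply, map_add, hψ',
          hab.apply_apply_eq_zero, add_zero] using this)
      have hx' : x' ∈ maximalIdeal R • (⊤ : Submodule R F) := hw x' (by
        have h2 := apply_mem_smul_top ψ' hd
        simp only [w', LinearMap.coprod_apply, LinearMap.comp_apply] at hz
        exact (Submodule.add_mem_iff_right _ h2).1 hz)
      have := add_mem (apply_mem_smul_top (LinearMap.inl R (κ → R) F) hd)
        (apply_mem_smul_top (LinearMap.inr R (κ → R) F) hx')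
      simpa using this
    have := hN.detects_free w' hw' (c, -x) (by simp [w', hv])
    exact (Prod.ext_iff.1 this).1
  have ha : Injective a := (injective_iff_map_eq_zero _).2 fun v hv => by
    obtain ⟨w, x, rfl, hw⟩ := h₁ v
    rw [hN.detects_free (a ∘ₗ w) hw x hv, map_zero]
  have := h₂ hinj
  exact CAlgH3.flat_of_extension a b ha hb hab

section Key

variable {D G : Type u} [CommRing D] [Algebra R D] [Algebra.Smooth R D]
  [((maximalIdeal R).map (algebraMap R D)).IsPrime] [AddCommGroup G] [Module D G] [Module R G]
  [IsScalarTower R D G]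

/-- A step of the dévissage. -/
theorem flatOfInj_step (hdom : FibresDomain R D) (y : Ideal D) [y.IsPrime]
    (hy : (maximalIdeal R).map (algebraMap R D) ≤ y) {r : ℕ} (α : (Fin r → D) →ₗ[D] G)
    (hα : Injective (α.baseChange ((maximalIdeal R).map (algebraMap R D)).ResidueField))
    (h : FlatOfInj R (LocalizedModule y.primeCompl (G ⧸ LinearMap.range α))) :
    FlatOfInj R (LocalizedModule y.primeCompl G) := by
  have : Module.Free R D := free_of_fibresDomain hdom
  have : Module.Flat R (LocalizedModule y.primeCompl (Fin r → D)) :=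
    Props12.flat_localizedModule _ _
  refine FlatOfInj.of_exact ((LocalizedModule.map y.primeCompl α).restrictScalars R)
    ((LocalizedModule.map y.primeCompl (LinearMap.range α).mkQ).restrictScalars R)
    (LocalizedModule.map_exact _ α _ (LinearMap.exact_map_mkQ_range α))
    (LocalizedModule.map_surjective _ _ (Submodule.mkQ_surjective _)) h (Fin r → D) fun v => ?_
  induction v using LocalizedModule.induction_on with
  | h x s =>
    let ψ : (Fin r → D) →ₗ[R] LocalizedModule y.primeCompl (Fin r → D) :=
      { toFun := fun w => LocalizedModule.mk w s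
        map_add' := fun a b => by
          rw [LocalizedModule.mk_add_mk, LocalizedModule.mk_eq]
          exact ⟨1, by simp only [one_smul, Submonoid.smul_def, smul_add, mul_smul]⟩
        map_smul' := fun a w => by simp [LocalizedModule.smul'_mk] }
    refine ⟨ψ, x, rfl, fun x' h1 => ?_⟩
    have h2 := smul_mem_smul_top (maximalIdeal R) (s : D) h1
    have h3 : LocalizedModule.mkLinearMap y.primeCompl G (α x') ∈
        maximalIdeal R • (⊤ : Submodule R (LocalizedModule y.primeCompl G)) := by
      convert h2 using 1
      show LocalizedModule.mk (α x') 1 = (s : D) • LocalizedModule.map y.primeCompl α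
        (LocalizedModule.mk x' s)
      rw [LocalizedModule.map_mk, LocalizedModule.smul'_mk, LocalizedModule.mk_eq]
      exact ⟨1, by simp [Submonoid.smul_def]⟩
    obtain ⟨c, hc, hcm⟩ := exists_smul_mem_of_mk_mem y.primeCompl _ (α x') h3
    let K := ((maximalIdeal R).map (algebraMap R D)).ResidueField
    have h0 : ∀ g ∈ maximalIdeal R • (⊤ : Submodule R G), (1 : K) ⊗ₜ[D] g = 0 := by
      intro g hg
      refine Submodule.smul_induction_on hg (fun a ha v _ => ?_)
        fun v w hv hw => by rw [tmul_add, hv, hw, add_zero]
      rw [← algebraMap_smul D a v, ← TensorProduct.smul_tmul, Algebra.smul_def, mul_one,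
        (Ideal.algebraMap_residueField_eq_zero).2 (Ideal.mem_map_of_mem _ ha), zero_tmul]
    have h4 : algebraMap D K c • α.baseChange K ((1 : K) ⊗ₜ x') = 0 := by
      rw [LinearMap.baseChange_tmul, algebraMap_smul, ← tmul_smul]
      exact h0 _ hcm
    have hcK : algebraMap D K c ≠ 0 := fun h => hc (hy (Ideal.algebraMap_residueField_eq_zero.1 h))
    have h5 : (1 : K) ⊗ₜ[D] x' = 0 :=
      hα (((smul_eq_zero.1 h4).resolve_left hcK).trans (map_zero _).symm)
    refine mem_smul_top_of_mem_ξ x' fun i => ?_
    have h6 := congrArg (fun v => TensorProduct.rid D K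
      ((LinearMap.proj (R := D) (φ := fun _ : Fin r => D) i).lTensor K v)) h5
    simp only [LinearMap.lTensor_tmul, LinearMap.proj_apply, TensorProduct.rid_tmul, map_zero] at h6
    rw [Algebra.smul_def, mul_one] at h6
    exact Ideal.algebraMap_residueField_eq_zero.1 h6

end Key

section Transfer

variable {B A : Type u} [CommRing B] [CommRing A] [Algebra B A]
  [Algebra R B] [Algebra R A] [IsScalarTower R B A] {y : Ideal B} [y.IsPrime]
  {Q : Ideal A} [Q.IsPrime] [Q.LiesOver y] {G : Type u} [AddCommGroup G] [Module A G] [Module B G]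
  [IsScalarTower B A G] [Module R G] [IsScalarTower R B G] [IsScalarTower R A G]

theorem flatOfInj_iff (h : DividesBase y Q) :
    FlatOfInj R (LocalizedModule Q.primeCompl G) ↔ FlatOfInj R (LocalizedModule y.primeCompl G) := by
  have := isLocalizedModule_restrictScalars (G := G) h
  have : IsScalarTower R B (LocalizedModule Q.primeCompl G) := ⟨fun r b z => by
    induction z using LocalizedModule.induction_on with
    | h g s => simp only [LocalizedModule.smul'_mk, smul_assoc]⟩
  let e := (IsLocalizedModule.iso y.primeCompl
    ((LocalizedModule.mkLinearMap Q.primeCompl G).restrictScalars B)).restrictScalars R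
  exact ⟨fun hf => hf.of_equiv e.symm, fun hf => hf.of_equiv e⟩

end Transfer

theorem FlatOfInj.localized_congr {R B : Type u} [CommRing R] [IsLocalRing R] [CommRing B]
    [Algebra R B] {y : Ideal B} [y.IsPrime] {G G' : Type u} [AddCommGroup G] [Module B G] [Module R G]
    [IsScalarTower R B G] [AddCommGroup G'] [Module B G'] [Module R G'] [IsScalarTower R B G']
    (h : FlatOfInj R (LocalizedModule y.primeCompl G')) (e : G ≃ₗ[B] G') :
    FlatOfInj R (LocalizedModule y.primeCompl G) := by
  have : IsLocalizedModule y.primeCompl
      ((LocalizedModule.mkLinearMap y.primeCompl G').comp e.toLinearMap) :=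
    IsLocalizedModule.of_linearEquiv_right _ _ e
  exact h.of_equiv ((IsLocalizedModule.iso y.primeCompl
    ((LocalizedModule.mkLinearMap y.primeCompl G').comp e.toLinearMap)).restrictScalars R).symm

theorem flatOfInj_of_step {R : Type u} [CommRing R] [IsLocalRing R] {S : Type u} [CommRing S]
    [Algebra R S] {N : Type u} [AddCommGroup N] [Module S N] [Module R N] [IsScalarTower R S N]
    {q : Ideal S} [q.IsPrime] (s : Step R (maximalIdeal R) S N q)
    (h : ∀ [Module R (s.M ⧸ LinearMap.range s.α)] [IsScalarTower R s.B (s.M ⧸ LinearMap.range s.α)],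
      FlatOfInj R (LocalizedModule s.qB.primeCompl (s.M ⧸ LinearMap.range s.α))) :
    FlatOfInj R (LocalizedModule q.primeCompl N) := by
  let _ : Module R s.M := Module.compHom s.M (algebraMap R s.B)
  have : IsScalarTower R s.B s.M := .of_algebraMap_smul fun _ _ => rfl
  have : IsScalarTower R s.A s.M := isScalarTower_of_three R s.B s.A s.M
  have : IsScalarTower R S s.M := isScalarTower_of_top R S s.A s.M
  have := s.smooth
  have := s.finiteBA
  have hB : FlatOfInj R (LocalizedModule s.qB.primeCompl s.M) :=
    flatOfInj_step s.dom s.qB (Ideal.map_le_iff_le_comap.2 (s.qB.over_def (maximalIdeal R)).le)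
      s.α s.fibreIso.injective h
  have hA : FlatOfInj R (LocalizedModule s.qA.primeCompl s.M) :=
    (flatOfInj_iff (dividesBase_of_finite s.qB s.qA fun Q _ hQ => s.uniq Q hQ)).2 hB
  have : s.qA.LiesOver q := ⟨s.q0.symm⟩
  exact ((flatOfInj_iff (dividesBase_of_surjective s.surjSA q s.qA)).1 hA).localized_congr s.isoN

/-- The property at the point of a chain over a local base. -/
theorem flatOfInj_of_chain {R : Type u} [CommRing R] [IsLocalRing R] {S : Type u} [CommRing S]
    [Algebra R S] {N : Type u} [AddCommGroup N] [Module S N] {q : Ideal S}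
    (hc : Chain R (maximalIdeal R) S N q) [Module R N] [IsScalarTower R S N] [q.IsPrime] :
    FlatOfInj R (LocalizedModule q.primeCompl N) := by
  rename_i iR it hq
  revert iR it hq
  induction hc with
  | last s hs =>
    intro _ _ _
    refine flatOfInj_of_step s fun {_} {_} => ?_
    have : Subsingleton (s.M ⧸ LinearMap.range s.α) :=
      Submodule.Quotient.subsingleton_iff.2 (LinearMap.range_eq_top.2 hs)
    have : Subsingleton (LocalizedModule s.qB.primeCompl (s.M ⧸ LinearMap.range s.α)) :=
      (IsLocalizedModule.iso s.qB.primeCompl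
        (LocalizedModule.mkLinearMap s.qB.primeCompl (s.M ⧸ LinearMap.range s.α))).symm.toEquiv.subsingleton
    exact .of_subsingleton
  | cons s _ ih =>
    intro _ _ _
    exact flatOfInj_of_step s fun {_} {_} => ih (hq := s.hqB)

end Groth.Agent.CAlgH.FlatLocusH
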